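import Cfsg.Agent.DTS.Iso
import Cfsg.Agent.Gate.S3256

/-!
# `ZT` from the theorem on cyclic normal subgroups of point stabilisers
-/

set_option autoImplicit false

namespace Cfsg.Lib.DTS

open Subgroup MulAction Cfsg.Lib.ZP

universe v

theorem zc_of {D : Type v} [Finite D] {A : Subgroup (Equiv.Perm D)}
    (h2 : IsMultiplyPretransitive A D 2) {T : Subgroup A} (hn : T.Normal) (hs : IsSimpleGroup T)
    (hc : ¬ IsMulCommutative T) {b : D} {e : A} (he : e ∈ T) (he1 : e ≠ 1)
    (hz : ∀ t ∈ T, t • b = b → t * e = e * t) : ZC T D := by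
  classical
  have := Fintype.ofFinite D
  have h0 : T ≠ ⊥ := fun h => he1 (mem_bot.1 (h ▸ he))
  have hp := (Agent.S0700.result A h2 T h0 fun M hM hle => by
    rcases hs.eq_bot_or_eq_top_of_normal (M.subgroupOf T) (hM.subgroupOf T) with h | h
    · exact .inl (by rwa [subgroupOf_eq_bot, disjoint_iff, inf_eq_left.2 hle] at h)
    · exact .inr (le_antisymm hle (subgroupOf_eq_top.1 h))).resolve_left fun h => hc h.1
  refine ⟨h2, hn, hs, hc, hp.2, fun c h => he1 ?_⟩
  have := hp.2
  obtain ⟨g, rfl⟩ := exists_smul_eq T b c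
  have h1 := conj_mem_Zs (mem_Zs.2 ⟨he, hz⟩) (g : A)
  have h3 : (g : A) * e * (g : A)⁻¹ = 1 := mem_bot.1 (h ▸ h1)
  simpa [mul_inv_eq_iff_eq_mul] using h3

theorem ZC.noBad_false {A D : Type*} [Group A] [MulAction A D] [Finite A] [Nontrivial D]
    [FaithfulSMul A D] {T : Subgroup A} (h : ZC T D) (b : D) : ¬ NoBad T := fun hN => by
  have := h.simple
  have := (nontrivial_iff_ne_bot _).2 (h.ne b)
  obtain ⟨p, hp, hd⟩ := Nat.exists_prime_and_dvd (Finite.one_lt_card (α := Zs T b)).ne'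
  have := Fact.mk hp
  obtain ⟨z, hz⟩ := exists_prime_orderOf_dvd_card' p hd
  refine not_isolated h.nc hN hp (x := ⟨z, z.2.1⟩) ?_ (h.isolated (c := b) z.2)
  rw [← hz, ← orderOf_coe, ← orderOf_coe z]

theorem zt_of_gate [Agent.Gate.S3256.{v, v}] : ZT.{v} := by
  intro D _ A h2 T hn hs hc b e he he1 hz
  classical
  have := Fintype.ofFinite D
  have h := zc_of h2 hn hs hc he he1 hz
  have : Nontrivial D := by
    by_contra hD
    have := not_nontrivial_iff_subsingleton.1 hD
    exact he1 (Subtype.ext (Subsingleton.elim _ _))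
  have hT : normalClosure (Zs T b : Set A) = T := by
    have hle : normalClosure (Zs T b : Set A) ≤ T := normalClosure_le_normal fun z hz => hz.1
    rcases hs.eq_bot_or_eq_top_of_normal ((normalClosure (Zs T b : Set A)).subgroupOf T)
      (normalClosure_normal.subgroupOf T) with k | k
    · rw [subgroupOf_eq_bot, disjoint_iff, inf_eq_left.2 hle] at k
      exact absurd (eq_bot_iff.2 (k ▸ le_normalClosure)) (h.ne b)
    · exact le_antisymm hle (subgroupOf_eq_top.1 k)
  have key := Agent.Gate.S3256.out.{v, v} (G := A) (Ω := D) h2 b (Zs T b) (fun z hz => h.fix hz)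
    ⟨fun z hz g => by
      have := conj_mem_Zs (show (z : A) ∈ Zs T b from hz) (g : A)
      rwa [show (g : A) • b = b from g.2] at this⟩ (h.ne b) (h.isCyclic b)
  rw [hT] at key
  rcases key with ⟨N, hN, htr, hreg⟩ | ⟨F, _, _, -, ⟨φ⟩⟩ | ⟨F, _, _, q, hF, -, ⟨φ⟩⟩ |
    ⟨-, ⟨F, _, _, -, ⟨φ⟩⟩, -⟩
  · have heZ : e ∈ Zs T b := mem_Zs.2 ⟨he, hz⟩
    rcases hs.eq_bot_or_eq_top_of_normal (N.subgroupOf T) (hN.subgroupOf T) with k | k
    · obtain ⟨b', hb⟩ := exists_ne b
      obtain ⟨n, rfl⟩ := htr.exists_smul_eq b b'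
      have hc := commute_of_normal_of_disjoint N T hN hn (subgroupOf_eq_bot.1 k) n e n.2 he
      refine he1 (h.semi hb heZ ?_)
      show e • ((n : A) • b) = (n : A) • b
      rw [← mul_smul, ← hc.eq, mul_smul, h.fix heZ]
    · have : (⟨e, subgroupOf_eq_top.1 k he⟩ : N) ∈ stabilizer N b := h.fix heZ
      rw [hreg, mem_bot] at this
      exact he1 (congrArg Subtype.val this)
  · exact h.noBad_false b (.of_simple hc φ fun h _ => noBad_psl2 h)
  · refine h.noBad_false b (.of_simple hc φ (noBad_psu3 hF ?_))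
    rintro rfl
    have := (Agent.S0282.result (F := F) hF).2
    have : Group.IsSolvable T := Group.isSolvable_of_isSolvable_injective (f := φ.toMonoidHom) φ.injective
    exact hc ⟨⟨IsSimpleGroup.comm_iff_isSolvable.2 this⟩⟩
  · exact h.noBad_false b (.of_simple hc φ fun h _ => noBad_psl2 h)

end Cfsg.Lib.DTS
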