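import Mathlib.GroupTheory.GroupAction.MultipleTransitivity
import Mathlib.GroupTheory.Subgroup.Simple
import Mathlib.Data.Set.Card
import Mathlib.Data.SetLike.Fintype
import Mathlib.Algebra.Group.Subgroup.Finite
import Mathlib.Order.WellFounded

/-!
# Minimal normal subgroups of a subgroup; the Hamming distance argument
-/

set_option autoImplicit false

namespace Cfsg.Lib.DTS

open Subgroup MulAction

variable {G : Type*} [Group G]

/-- Conjugate subgroup. -/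
def cj (g : G) (H : Subgroup G) : Subgroup G := H.map (MulAut.conj g).toMonoidHom

theorem mem_cj {g x : G} {H : Subgroup G} : x ∈ cj g H ↔ g⁻¹ * x * g ∈ H := by
  constructor
  · rintro ⟨y, hy, rfl⟩
    simpa [mul_assoc] using hy
  · intro h
    exact ⟨_, h, by simp [mul_assoc]⟩

theorem conj_mem_cj {g x : G} {H : Subgroup G} (h : x ∈ H) : g * x * g⁻¹ ∈ cj g H :=
  mem_cj.2 (by simpa [mul_assoc] using h)

theorem cj_mul (g h : G) (H : Subgroup G) : cj (g * h) H = cj g (cj h H) := by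
  ext x; simp [mem_cj, mul_assoc]

theorem cj_one (H : Subgroup G) : cj 1 H = H := by ext x; simp [mem_cj]

/-- `x` centralises `H`. -/
def Ce (x : G) (H : Subgroup G) : Prop := ∀ y ∈ H, x * y = y * x

theorem Ce.one (H : Subgroup G) : Ce 1 H := fun y _ => by simp

theorem Ce.mul {x y : G} {H : Subgroup G} (hx : Ce x H) (hy : Ce y H) : Ce (x * y) H :=
  fun z hz => by rw [mul_assoc, hy z hz, ← mul_assoc, hx z hz, mul_assoc]

theorem Ce.inv {x : G} {H : Subgroup G} (hx : Ce x H) : Ce x⁻¹ H := fun z hz =>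
  (Commute.inv_left (hx z hz) : Commute x⁻¹ z)

theorem ce_iff {x : G} {H : Subgroup G} : Ce x H ↔ x ∈ centralizer (H : Set G) :=
  ⟨fun h y hy => (h y hy).symm, fun h y hy => (h y hy).symm⟩

/-- `g` normalises `H`. -/
def Nm (g : G) (H : Subgroup G) : Prop := ∀ y ∈ H, g * y * g⁻¹ ∈ H

theorem Ce.nm {x : G} {H : Subgroup G} (hx : Ce x H) : Nm x H := fun y hy => by
  rw [hx y hy]; simpa using hy

theorem nm_of_mem {x : G} {H : Subgroup G} (hx : x ∈ H) : Nm x H := fun _ hy =>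
  mul_mem (mul_mem hx hy) (inv_mem hx)

theorem Nm.mul {x y : G} {H : Subgroup G} (hx : Nm x H) (hy : Nm y H) : Nm (x * y) H :=
  fun z hz => by simpa [mul_assoc] using hx _ (hy z hz)

theorem nm_iff [Finite G] {x : G} {H : Subgroup G} : Nm x H ↔ x ∈ normalizer (H : Set G) :=
  ⟨fun h => mem_normalizer_fintype h, fun h y hy => (mem_normalizer_iff.1 h y).1 hy⟩

theorem Nm.inv [Finite G] {x : G} {H : Subgroup G} (hx : Nm x H) : Nm x⁻¹ H :=
  nm_iff.2 (inv_mem (nm_iff.1 hx))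

theorem Nm.cj_eq [Finite G] {x : G} {H : Subgroup G} (hx : Nm x H) : cj x H = H := by
  ext y
  rw [mem_cj]
  exact ⟨fun h => by simpa [mul_assoc] using hx _ h, fun h => by simpa using hx.inv _ h⟩

theorem Ce.conj [Finite G] {g x : G} {H : Subgroup G} (hx : Ce x H) (hg : Nm g H) :
    Ce (g * x * g⁻¹) H := fun y hy => by
  have := hx _ (hg.inv y hy)
  calc g * x * g⁻¹ * y = g * (x * (g⁻¹ * y * g⁻¹⁻¹)) * g⁻¹ := by group
    _ = y * (g * x * g⁻¹) := by rw [this]; group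

theorem Ce.cj {g x : G} {H : Subgroup G} (hx : Ce x H) : Ce (g * x * g⁻¹) (cj g H) := by
  rintro _ ⟨y, hy, rfl⟩
  have := hx y hy
  change g * x * g⁻¹ * (g * y * g⁻¹) = g * y * g⁻¹ * (g * x * g⁻¹)
  calc _ = g * (x * y) * g⁻¹ := by group
    _ = _ := by rw [this]; group

theorem fin_sub [Finite G] : Finite (Subgroup G) :=
  Finite.of_injective (fun H : Subgroup G => (H : Set G)) SetLike.coe_injective

/-- `T` is a minimal normal subgroup of `N`. -/
structure Comp (N T : Subgroup G) : Prop where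
  ne : T ≠ ⊥
  le : T ≤ N
  nm : ∀ n ∈ N, Nm n T
  min : ∀ W : Subgroup G, W ≤ T → (∀ n ∈ N, Nm n W) → W = ⊥ ∨ W = T

theorem exists_comp [Finite G] {N M : Subgroup G} (hM : M ≠ ⊥) (hle : M ≤ N)
    (hn : ∀ n ∈ N, Nm n M) : ∃ T, T ≤ M ∧ Comp N T := by
  have := fin_sub (G := G)
  obtain ⟨T, hT, hmin⟩ := WellFounded.has_min (wellFounded_lt (α := Subgroup G))
    {T | T ≠ ⊥ ∧ T ≤ M ∧ ∀ n ∈ N, Nm n T} ⟨M, hM, le_rfl, hn⟩
  refine ⟨T, hT.2.1, hT.1, hT.2.1.trans hle, hT.2.2, fun W hW hWn => ?_⟩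
  by_cases h : W = ⊥
  · exact Or.inl h
  · exact Or.inr (eq_of_le_of_not_lt hW (hmin W ⟨h, hW.trans hT.2.1, hWn⟩))

namespace Comp

variable {N T T' : Subgroup G}

theorem conj [Finite G] (h : Comp N T) {g : G} (hg : Nm g N) : Comp N (cj g T) := by
  refine ⟨fun e => h.ne ?_, fun x hx => ?_, fun n hn x hx => ?_, fun W hW hWn => ?_⟩
  · rw [eq_bot_iff]
    intro x hx
    have := conj_mem_cj (g := g) hx
    rw [e, mem_bot] at this
    simpa using this
  · simpa [mul_assoc] using hg _ (h.le (mem_cj.1 hx))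
  · rw [mem_cj] at hx ⊢
    have := h.nm _ (hg.inv n hn) _ hx
    simpa [mul_assoc] using this
  · rcases h.min (cj g⁻¹ W) (fun x hx => by
        have := hW (mem_cj.1 hx); simpa [mem_cj, mul_assoc] using this)
      (fun n hn x hx => by
        rw [mem_cj] at hx ⊢
        have := hWn _ (hg n hn) _ hx
        simpa [mul_assoc] using this) with e | e
    · left
      rw [eq_bot_iff]
      intro x hx
      have := conj_mem_cj (g := g⁻¹) hx
      rw [e, mem_bot] at this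
      simpa using (conj_eq_one_iff.1 this : x = 1)
    · right
      rw [← e, ← cj_mul, mul_inv_cancel, cj_one]

theorem inf_bot (h : Comp N T) {W : Subgroup G} (hW : ∀ n ∈ N, Nm n W) (hle : ¬ T ≤ W) :
    ∀ x ∈ T, x ∈ W → x = 1 := by
  rcases h.min (T ⊓ W) inf_le_left (fun n hn y hy => ⟨h.nm n hn y hy.1, hW n hn y hy.2⟩) with e | e
  · intro x h1 h2
    have : x ∈ T ⊓ W := ⟨h1, h2⟩
    rwa [e, mem_bot] at this
  · exact absurd (e ▸ inf_le_right) hle

/-- A subgroup normalised by `N`, normalising `T` and not containing `T` centralises `T`. -/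
theorem ce_of [Finite G] (h : Comp N T) {W : Subgroup G} (hW : ∀ n ∈ N, Nm n W) (hle : ¬ T ≤ W)
    {w : G} (hw : w ∈ W) (hwT : Nm w T) : Ce w T := fun t ht => by
  have h1 : w * t * w⁻¹ * t⁻¹ = 1 := h.inf_bot hW hle _ (mul_mem (hwT t ht) (inv_mem ht)) (by
    have := mul_mem hw (hW t (h.le ht) _ (inv_mem hw))
    simpa [mul_assoc] using this)
  calc w * t = (w * t * w⁻¹ * t⁻¹) * (t * w) := by group
    _ = t * w := by rw [h1, one_mul]

theorem comm [Finite G] (h : Comp N T) (h' : Comp N T') (hne : T ≠ T') {x : G} (hx : x ∈ T') :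
    Ce x T :=
  h.ce_of h'.nm (fun hle => by
    rcases h'.min T hle h.nm with e | e
    · exact h.ne e
    · exact hne e) hx (h.nm x (h'.le hx))

end Comp

/-- `N` is a non-abelian minimal normal subgroup of `G`. -/
structure MN (N : Subgroup G) : Prop where
  c : Comp ⊤ N
  na : ∃ x ∈ N, ¬ Ce x N

namespace MN

variable [Finite G] {N T T' : Subgroup G} (h : MN N)
include h

omit [Finite G] in
theorem nm (g : G) : Nm g N := h.c.nm g trivial

theorem le_of (hT : Comp N T) {K : Subgroup G} (hK : ∀ g, cj g T ≤ K) : N ≤ K := by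
  let M : Subgroup G := ⨆ g, cj g T
  have hM : ∀ g, cj g T ≤ M := fun g => le_iSup (fun g => cj g T) g
  rcases h.c.min M (iSup_le fun g => (hT.conj (h.nm g)).le) (fun n _ y hy => by
      have : M ≤ M.comap (MulAut.conj n).toMonoidHom := iSup_le fun g x hx =>
        hM (n * g) (by rw [cj_mul]; exact conj_mem_cj hx)
      exact this hy) with e | e
  · exact absurd (eq_bot_iff.2 (e ▸ (cj_one T ▸ hM 1))) hT.ne
  · exact e ▸ iSup_le hK

theorem ce_of_all (hT : Comp N T) {x : G} (hx : ∀ g, Ce x (cj g T)) : Ce x N := fun y hy =>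
  (h.le_of hT (K := centralizer {x}) (fun g z hz => mem_centralizer_singleton_iff.2
    (hx g z hz).symm) hy : y ∈ centralizer {x}) x rfl

theorem decomp (hT : Comp N T) {n : G} (hn : n ∈ N) : ∃ t ∈ T, Ce (t⁻¹ * n) T := by
  let K : Subgroup G :=
    { carrier := {n | ∃ t ∈ T, Ce (t⁻¹ * n) T}
      one_mem' := ⟨1, one_mem _, by simpa using Ce.one T⟩
      mul_mem' := by
        rintro a b ⟨t, ht, h1⟩ ⟨s, hs, h2⟩
        refine ⟨t * s, mul_mem ht hs, ?_⟩
        have := (h1.conj (nm_of_mem (inv_mem hs))).mul h2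
        simpa [mul_assoc] using this
      inv_mem' := by
        rintro a ⟨t, ht, h1⟩
        refine ⟨t⁻¹, inv_mem ht, ?_⟩
        have := h1.inv.conj (nm_of_mem ht)
        simpa [mul_assoc] using this }
  refine h.le_of hT (K := K) (fun g x hx => ?_) hn
  by_cases e : T = cj g T
  · exact ⟨x, e ▸ hx, by simpa using Ce.one T⟩
  · exact ⟨1, one_mem _, by simpa using hT.comm (hT.conj (h.nm g)) e hx⟩

theorem simple (hT : Comp N T) (W : Subgroup G) (hW : W ≤ T) (hn : ∀ t ∈ T, Nm t W) :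
    W = ⊥ ∨ W = T :=
  hT.min W hW fun n hn' => by
    obtain ⟨t, ht, hc⟩ := h.decomp hT hn'
    have := (hn t ht).mul (Ce.nm (x := t⁻¹ * n) (H := W) fun y hy => hc y (hW hy))
    simpa using this

theorem not_comm (hT : Comp N T) : ¬ ∀ x ∈ T, Ce x T := fun hc => by
  obtain ⟨x, hx, hx'⟩ := h.na
  refine hx' fun y hy => ?_
  have key : ∀ g, ∀ z ∈ cj g T, Ce z N := fun g z hz => h.ce_of_all hT fun g' => by
    by_cases e : cj g' T = cj g T
    · rw [e]
      have := (hc _ (mem_cj.1 hz)).cj (g := g)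
      simpa [mul_assoc] using this
    · exact (hT.conj (h.nm g')).comm (hT.conj (h.nm g)) e hz
  exact (h.le_of hT (K := centralizer {y}) (fun g z hz => mem_centralizer_singleton_iff.2
    (key g z hz y hy)) hx y rfl).symm

theorem eq_one (hT : Comp N T) {x : G} (hx : x ∈ T) (hc : Ce x T) : x = 1 :=
  hT.inf_bot (W := centralizer (T : Set G))
    (fun n hn y hy => ce_iff.1 ((ce_iff.2 hy).conj (hT.nm n hn)))
    (fun hle => h.not_comm hT fun y hy => ce_iff.2 (hle hy)) x hx (ce_iff.1 hc)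

theorem exists_cj (hT : Comp N T) (hT' : Comp N T') : ∃ g, cj g T = T' := by
  by_contra hne
  push Not at hne
  refine h.not_comm hT' fun x hx y hy => h.ce_of_all hT (fun g => ?_) y (hT'.le hy)
  exact (hT.conj (h.nm g)).comm hT' (hne g) hx

theorem exists_comp : ∃ T, Comp N T := by
  obtain ⟨T, -, hT⟩ := DTS.exists_comp h.c.ne le_rfl fun n hn => nm_of_mem hn
  exact ⟨T, hT⟩

theorem ce_of_comps {x : G} (hx : ∀ T, Comp N T → Ce x T) : Ce x N := by
  obtain ⟨T, hT⟩ := h.exists_comp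
  exact h.ce_of_all hT fun g => hx _ (hT.conj (h.nm g))

theorem eq_one' {x : G} (hx : x ∈ N) (hc : Ce x N) : x = 1 :=
  h.c.inf_bot (W := centralizer (N : Set G))
    (fun n _ y hy => ce_iff.1 ((ce_iff.2 hy).conj (h.nm n)))
    (fun hle => by
      obtain ⟨y, hy, hy'⟩ := h.na
      exact hy' (ce_iff.2 (hle hy))) x hx (ce_iff.1 hc)

/-- An abelian subgroup normalised by `N` and normalising its components centralises `N`. -/
theorem ce_of_ab {A : Subgroup G} (hA : ∀ a ∈ A, Ce a A) (hn : ∀ n ∈ N, Nm n A) {a : G}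
    (ha : a ∈ A) (haT : ∀ T, Comp N T → Nm a T) : Ce a N :=
  h.ce_of_comps fun T hT => hT.ce_of hn
    (fun hle => h.not_comm hT fun x hx y hy => hA x (hle hx) y (hle hy)) ha (haT T hT)

end MN

variable {Ω : Type*} [MulAction G Ω]

/-- The Hamming distance argument. -/
theorem ham [Finite G] {α β : Ω} {S : Subgroup G} (hS : ∀ g, Nm g S) (𝒱 : Set (Subgroup G))
    (h1 : ∀ V ∈ 𝒱, ∀ s ∈ S, Nm s V)
    (h2 : ∀ V ∈ 𝒱, ∀ g : G, g • α = α → cj g V ∈ 𝒱)
    (h3 : ∀ V ∈ 𝒱, ∀ V' ∈ 𝒱, ∃ g : G, g • α = α ∧ cj g V = V')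
    (h4 : ∀ V ∈ 𝒱, ∀ V' ∈ 𝒱, V ≠ V' → ∀ x ∈ V', Ce x V)
    (h5 : ∀ V ∈ 𝒱, ∀ x ∈ V, Ce x V → x = 1)
    (h6 : ∀ V ∈ 𝒱, ∀ r ∈ S, r • α = α → ∃ x ∈ V, x ∈ S ∧ x • α = α ∧ Ce (x⁻¹ * r) V)
    (h7 : ∀ r ∈ S, r • α = α → (∀ V ∈ 𝒱, Ce r V) → r = 1)
    (h8 : ∃ V ∈ 𝒱, ∃ V' ∈ 𝒱, V ≠ V')
    (hβ : ∃ s ∈ S, s • α = β)
    (hR : ∀ g : G, g • α = α → ∃ r ∈ S, r • α = α ∧ r • β = g • β)
    (hm : ∃ r ∈ S, r • α = α ∧ r • β ≠ β)
    (h2t : ∀ g g' : G, g • α = α → g' • α = α → g • β ≠ β → g' • β ≠ β →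
      ∃ k : G, k • α = α ∧ k • β = β ∧ k • g • β = g' • β) : False := by
  have := fin_sub (G := G)
  have fx : ∀ {g : G} {a : Ω}, g • a = a → g⁻¹ • a = a := fun h => by
    rw [inv_smul_eq_iff, h]
  have A : ∀ V ∈ 𝒱, ∃ x ∈ V, x ∈ S ∧ x • α = α ∧ x • β ≠ β := by
    intro V0 hV0
    by_contra hno
    push Not at hno
    have a1 : ∀ V ∈ 𝒱, ∀ x ∈ V, x ∈ S → x • α = α → x • β = β := by
      intro V hV x hx hxS hxα
      obtain ⟨g, hg, e⟩ := h3 V hV V0 hV0
      obtain ⟨r, hr, hrα, hrβ⟩ := hR g hg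
      have := hno (r⁻¹ * (g * x * g⁻¹) * r⁻¹⁻¹)
        (h1 V0 hV0 _ (inv_mem hr) _ (e ▸ conj_mem_cj hx))
        (hS _ _ (hS g x hxS)) (by simp [mul_smul, hrα, fx hg, hxα, hg, fx hrα])
      rw [inv_inv, mul_smul, hrβ, mul_smul, inv_smul_eq_iff, hrβ] at this
      simpa [mul_smul] using this
    have a2 : ∀ n, ∀ r ∈ S, r • α = α → {V | V ∈ 𝒱 ∧ ¬ Ce r V}.ncard = n → r • β = β := by
      intro n
      induction n using Nat.strong_induction_on with
      | _ n ih =>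
        intro r hr hrα hn
        by_cases hall : ∀ V ∈ 𝒱, Ce r V
        · rw [h7 r hr hrα hall, one_smul]
        push Not at hall
        obtain ⟨V, hV, hrV⟩ := hall
        obtain ⟨x, hx, hxS, hxα, hc⟩ := h6 V hV r hr hrα
        have hlt : {W | W ∈ 𝒱 ∧ ¬ Ce (x⁻¹ * r) W}.ncard < n := by
          rw [← hn]
          refine Set.ncard_lt_ncard ⟨fun W hW => ⟨hW.1, fun hc' => hW.2 ?_⟩, fun hsub => ?_⟩
            (Set.toFinite _)
          · by_cases e : W = V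
            · exact e ▸ hc
            · exact (h4 W hW.1 V hV e x hx).inv.mul hc'
          · exact (hsub ⟨hV, hrV⟩).2 hc
        have := ih _ hlt (x⁻¹ * r) (mul_mem (inv_mem hxS) hr)
          (by rw [mul_smul, hrα, fx hxα]) rfl
        rw [mul_smul, inv_smul_eq_iff, a1 V hV x hx hxS hxα] at this
        exact this
    obtain ⟨r, hr, hrα, hrβ⟩ := hm
    exact hrβ (a2 _ r hr hrα rfl)
  have B : ∀ V ∈ 𝒱, ∀ m ∈ V, m ∈ S → ∀ m' ∈ S, Ce m' V → (m * m') • β = β → m • β = β := by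
    intro V hV m hmV hmS m' hm' hc e
    obtain ⟨s, hs, rfl⟩ := hβ
    have hs' := h1 V hV _ (inv_mem hs)
    obtain ⟨x, hx, hxS, hxα, hc'⟩ := h6 V hV (s⁻¹ * (m * m') * s⁻¹⁻¹)
      (hS _ _ (mul_mem hmS hm')) (by rw [inv_inv, mul_smul, mul_smul, e, inv_smul_smul])
    have e1 := h5 V hV (x⁻¹ * (s⁻¹ * m * s⁻¹⁻¹)) (mul_mem (inv_mem hx) (hs' m hmV)) (by
      have := hc'.mul (hc.conj hs').inv
      simpa [mul_assoc] using this)
    rw [inv_mul_eq_one, inv_inv] at e1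
    rw [e1, mul_smul, mul_smul, inv_smul_eq_iff] at hxα
    exact hxα
  obtain ⟨V, hV, V', hV', hne⟩ := h8
  obtain ⟨x, hx, hxS, hxα, hxβ⟩ := A V hV
  obtain ⟨y, hy, hyS, hyα, hyβ⟩ := A V' hV'
  obtain ⟨k, hkα, hkβ, hk⟩ := h2t x (x * y) hxα (by rw [mul_smul, hyα, hxα]) hxβ
    (fun e => hxβ (B V hV x hx hxS y hyS (h4 V hV V' hV' hne y hy) e))
  have hx' : k * x * k⁻¹ ∈ cj k V := conj_mem_cj hx
  have hxS' : k * x * k⁻¹ ∈ S := hS k x hxS
  have e : ((k * x * k⁻¹)⁻¹ * (x * y)) • β = β := by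
    rw [mul_smul, inv_smul_eq_iff, ← hk, mul_smul, mul_smul, fx hkβ]
  by_cases hk' : cj k V = V
  · rw [hk'] at hx'
    have hc := h4 V' hV' V hV hne.symm _ (mul_mem (inv_mem hx') hx)
    refine hyβ (B V' hV' y hy hyS _ (mul_mem (inv_mem hxS') hxS) hc ?_)
    rw [← hc y hy, mul_assoc]; exact e
  · have hc := (h4 V hV _ (h2 V hV k hkα) (Ne.symm hk') _ hx').inv
    refine hxβ (B V hV x hx hxS _ (mul_mem (inv_mem hxS') hyS)
      (hc.mul (h4 V hV V' hV' hne y hy)) ?_)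
    rw [← mul_assoc, ← hc x hx, mul_assoc]; exact e

end Cfsg.Lib.DTS
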