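import Cfsg.Agent.DTS.Red
import Cfsg.Agent.ZP.Main
import Cfsg.Agent.Perm.FCStruct
import Cfsg.Agent.S0700
import Cfsg.Agent.S0282

/-!
# The centre of a point stabiliser in the simple socle of a doubly transitive group
-/

set_option autoImplicit false

namespace Cfsg.Lib.DTS

open Subgroup MulAction Cfsg.Lib.ZP

theorem center_eq_bot_of_simple {X : Type*} [Group X] [IsSimpleGroup X]
    (hc : ¬ IsMulCommutative X) : center X = ⊥ :=
  (IsSimpleGroup.eq_bot_or_eq_top_of_normal _ inferInstance).resolve_right fun h =>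
    hc ⟨⟨fun a b => mem_center_iff.1 (h.ge (mem_top b)) a⟩⟩

/-- A non-abelian simple group satisfying `NoBad` has no isolated element of prime order. -/
theorem not_isolated {X : Type*} [Group X] [Finite X] [IsSimpleGroup X]
    (hc : ¬ IsMulCommutative X) (hN : NoBad X) {p : ℕ} (hp : p.Prime) {x : X}
    (ho : orderOf x = p) (hi : IsIsolated x) : False := by
  have := Fact.mk hp
  have hZ := center_eq_bot_of_simple hc
  have hx1 : x ≠ 1 := fun e => hp.one_lt.ne' (by rw [← ho, e, orderOf_one])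
  have hd : p ∣ Nat.card X := ho ▸ orderOf_dvd_natCard x
  by_cases h2 : p = 2
  · subst h2
    have := Block.Princ.zstar_center ⟨ho, hi⟩
      (Bender.oddCore_eq_bot_of_simple (even_iff_two_dvd.2 hd))
    rw [hZ, mem_bot] at this
    exact hx1 this
  obtain ⟨T, hT⟩ := (Known.GL2.isPGroup_zpowers_of_pow (p := p) (x := x) (k := 1)
    (by rw [pow_one, ← ho, pow_orderOf_eq_one])).exists_le_sylow
  have hb : Bad p (⊤ : Subgroup X) x := ⟨ho, fun γ _ => hi γ,
    ⟨_, Trans.isSylowIn_inf_of_normal T _,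
      inf_le_left.trans (Local.Iso.le_centralizer hi T.isPGroup' (hT (mem_zpowers x)))⟩,
    by rwa [card_top]⟩
  have hinj : Function.Injective (MulAut.conj : X →* MulAut X) := by
    refine (MonoidHom.ker_eq_bot_iff _).1 (eq_bot_iff.2 fun g hg => hZ ▸ mem_center_iff.2 fun y => ?_)
    have := MulEquiv.congr_fun (MonoidHom.mem_ker.1 hg) y
    simp only [MulAut.conj_apply, MulAut.one_apply, mul_inv_eq_iff_eq_mul] at this
    exact this.symm
  have := hb.map _ hinj
  rw [← MonoidHom.range_eq_map] at this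
  exact hN p hp h2 _ this

variable {A D : Type*} [Group A] [MulAction A D]

/-- The elements of `T` centralising the stabiliser of `c` in `T`. -/
def Zs (T : Subgroup A) (c : D) : Subgroup A := T ⊓ centralizer (T ⊓ stabilizer A c : Subgroup A)

theorem mem_Zs {T : Subgroup A} {c : D} {z : A} :
    z ∈ Zs T c ↔ z ∈ T ∧ ∀ t ∈ T, t • c = c → t * z = z * t :=
  ⟨fun h => ⟨h.1, fun t ht hc => mem_centralizer_iff.1 h.2 t ⟨ht, hc⟩⟩,
    fun h => ⟨h.1, mem_centralizer_iff.2 fun t ht => h.2 t ht.1 ht.2⟩⟩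

theorem conj_mem_Zs {T : Subgroup A} [hn : T.Normal] {c : D} {z : A} (hz : z ∈ Zs T c) (g : A) :
    g * z * g⁻¹ ∈ Zs T (g • c) := by
  rw [mem_Zs] at hz ⊢
  refine ⟨hn.conj_mem z hz.1 g, fun t ht hc => ?_⟩
  have := hz.2 (g⁻¹ * t * g) (hn.conj_mem' t ht g) (by rw [mul_smul, mul_smul, hc, inv_smul_smul])
  calc t * (g * z * g⁻¹) = g * (g⁻¹ * t * g * z) * g⁻¹ := by group
    _ = g * (z * (g⁻¹ * t * g)) * g⁻¹ := by rw [this]
    _ = _ := by group

/-- The configuration of `ZT`. -/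
structure ZC (T : Subgroup A) (D : Type*) [MulAction A D] : Prop where
  two : IsMultiplyPretransitive A D 2
  nm : T.Normal
  simple : IsSimpleGroup T
  nc : ¬ IsMulCommutative T
  prim : IsPreprimitive T D
  ne : ∀ c : D, Zs T c ≠ ⊥

namespace ZC

variable {T : Subgroup A}

theorem not_cen (h : ZC T D) {z : A} (hz : z ∈ T) (hc : ∀ t ∈ T, t * z = z * t) : z = 1 := by
  have := h.simple
  have : (⟨z, hz⟩ : T) ∈ center T := mem_center_iff.2 fun t => Subtype.ext (hc t t.2)
  rw [center_eq_bot_of_simple h.nc, mem_bot] at this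
  exact congrArg Subtype.val this

theorem cen (h : ZC T D) [Nontrivial D] {c : D} {z : A} (hz : z ∈ Zs T c) (h1 : z ≠ 1) {t : A}
    (ht : t ∈ T) (hc : t * z = z * t) : t • c = c := by
  have := h.prim
  have hm := IsPreprimitive.isCoatom_stabilizer_of_isPreprimitive T c
  have hle : stabilizer T c ≤ (centralizer {z}).subgroupOf T := fun s hs =>
    mem_centralizer_singleton_iff.2 ((mem_Zs.1 hz).2 s s.2 hs)
  rcases hle.eq_or_lt with e | e
  · have : (⟨t, ht⟩ : T) ∈ stabilizer T c := e ▸ mem_centralizer_singleton_iff.2 hc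
    exact this
  · refine absurd (h.not_cen hz.1 fun s hs => ?_) h1
    have : (⟨s, hs⟩ : T) ∈ (centralizer {z}).subgroupOf T := hm.2 _ e ▸ mem_top _
    exact mem_centralizer_singleton_iff.1 this

theorem fix (h : ZC T D) [Nontrivial D] {c : D} {z : A} (hz : z ∈ Zs T c) : z • c = c := by
  by_cases h1 : z = 1
  · rw [h1, one_smul]
  · exact h.cen hz h1 hz.1 rfl

theorem semi (h : ZC T D) [Nontrivial D] [FaithfulSMul A D] {c d : D} (hd : d ≠ c) {z : A}
    (hz : z ∈ Zs T c) (hf : z • d = d) : z = 1 := by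
  by_contra h1
  have := h.nm
  refine h.ne d (eq_bot_iff.2 fun y hy => mem_bot.2 ?_)
  refine FaithfulSMul.eq_of_smul_eq_smul (α := D) fun x => ?_
  rw [one_smul]
  by_cases hx : x = d
  · rw [hx, h.fix hy]
  obtain ⟨g, h2, h3⟩ := is_two_pretransitive_iff.1 h.two (show d ≠ x from Ne.symm hx) hd
  have h4 := conj_mem_Zs hy g
  rw [h2] at h4
  have h5 := h.cen hz h1 h4.1 ((mem_Zs.1 h4).2 z hz.1 hf).symm
  rw [← h3, mul_smul, inv_smul_smul, mul_smul] at h5
  exact smul_left_cancel g h5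

theorem isolated (h : ZC T D) [Nontrivial D] [FaithfulSMul A D] {c : D} {z : T}
    (hz : (z : A) ∈ Zs T c) : IsIsolated z := fun g hg => by
  have := h.nm
  by_cases h1 : (z : A) = 1
  · rw [show z = 1 from Subtype.ext h1, mul_one, mul_inv_cancel]
  have h2 := h.cen hz h1 (g * z * g⁻¹).2 (congrArg Subtype.val hg.eq.symm)
  have h3 := conj_mem_Zs hz (g : A)
  by_cases h4 : c = (g : A) • c
  · refine Subtype.ext ?_
    have := (mem_Zs.1 hz).2 g g.2 h4.symm
    simp only [coe_mul, InvMemClass.coe_inv]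
    rw [this, mul_inv_cancel_right]
  · have := h.semi h4 h3 h2
    exact absurd (by simpa [mul_inv_eq_iff_eq_mul] using this) h1

theorem isCyclic (h : ZC T D) [Nontrivial D] [FaithfulSMul A D] [Finite A] (b : D) :
    IsCyclic (Zs T b) := by
  have hn := h.nm
  obtain ⟨b', hb⟩ := exists_ne b
  let W : Subgroup A := T ⊓ stabilizer A b ⊓ stabilizer A b'
  let Y : Subgroup A := T ⊓ normalizer W
  let K : Subgroup Y := W.subgroupOf Y
  have hK : K.Normal := ⟨fun w hw y => (mem_normalizer_iff.1 y.2.2 w).1 hw⟩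
  let f := QuotientGroup.mk' K
  let H : Subgroup (Y ⧸ K) := (stabilizer Y b).map f
  have mH : ∀ y : Y, f y ∈ H ↔ (y : A) • b = b := fun y => by
    refine ⟨?_, fun e => ⟨y, e, rfl⟩⟩
    rintro ⟨x, hx, e⟩
    have h1 : x⁻¹ * y ∈ K := QuotientGroup.eq.1 e
    have h2 : ((x : A)⁻¹ * y) • b = b := h1.1.2
    have h3 : (x : A) • b = b := hx
    rw [mul_smul, inv_smul_eq_iff] at h2
    rw [h2, h3]
  have mY : ∀ c : D, (∀ w ∈ W, w • c = c) → Zs T c ≤ Y := fun c hc z hz =>
    ⟨hz.1, centralizer_le_normalizer (W : Set A) (mem_centralizer_iff.2 fun w hw =>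
      (mem_Zs.1 hz).2 w hw.1.1 (hc w hw))⟩
  have hb1 := mY b fun w hw => hw.1.2
  have hb2 := mY b' fun w hw => hw.2
  have inj : ∀ z (hz : z ∈ Zs T b), f ⟨z, hb1 hz⟩ = 1 → z = 1 := fun z hz e =>
    h.semi hb hz ((QuotientGroup.eq_one_iff _).1 e).2
  have hH : IsFrobeniusComplement H := by
    refine ⟨fun e => h.ne b (eq_bot_iff.2 fun z hz => mem_bot.2 (inj z hz ?_)),
      fun e => h.ne b' (eq_bot_iff.2 fun z hz => mem_bot.2 (h.semi hb.symm hz ?_)), ?_⟩
    · exact mem_bot.1 (e ▸ (mH ⟨z, hb1 hz⟩).2 (h.fix hz))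
    · exact (mH ⟨z, hb2 hz⟩).1 (e ▸ mem_top _)
    intro g hg
    obtain ⟨g, rfl⟩ := QuotientGroup.mk'_surjective K g
    rw [eq_bot_iff]
    rintro x ⟨h1, h2⟩
    obtain ⟨y, rfl⟩ := QuotientGroup.mk'_surjective K x
    have h3 : f (g⁻¹ * y * g) ∈ H := by
      have := mem_pointwise_smul_iff_inv_smul_mem.1 h2
      rw [← map_inv, MulAut.smul_def, MulAut.conj_apply, inv_inv] at this
      rwa [map_mul, map_mul, map_inv]
    have h4 : (y : A) • ((g : A) • b) = (g : A) • b := by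
      have := (mH _).1 h3
      simp only [coe_mul, InvMemClass.coe_inv, mul_smul, inv_smul_eq_iff] at this
      exact this
    have h5 : (g : A) • b ≠ b := mt (mH g).2 hg
    obtain ⟨a, ha1, ha2⟩ := is_two_pretransitive_iff.1 h.two hb.symm h5.symm
    have h6 : W ≤ cj a W := fun w hw => by
      have h7 : w • ((g : A) • b) = (g : A) • b := by
        have : (g : A)⁻¹ * w * (g : A)⁻¹⁻¹ ∈ W := (mem_normalizer_iff.1 (inv_mem g.2.2) w).1 hw
        have h8 : ((g : A)⁻¹ * w * (g : A)⁻¹⁻¹) • b = b := this.1.2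
        rwa [inv_inv, mul_smul, mul_smul, inv_smul_eq_iff] at h8
      refine mem_cj.2 ⟨⟨hn.conj_mem' w hw.1.1 a, ?_⟩, ?_⟩
      · show (a⁻¹ * w * a) • b = b
        rw [mul_smul, mul_smul, ha1, show w • b = b from hw.1.2, inv_smul_eq_iff, ha1]
      · show (a⁻¹ * w * a) • b' = b'
        rw [mul_smul, mul_smul, ha2, h7, inv_smul_eq_iff, ha2]
    have h7 : W = cj a W := eq_of_le_of_card_ge h6 (by
      rw [cj]; exact (card_map_of_injective (MulAut.conj a).injective).le)
    refine mem_bot.2 ((QuotientGroup.eq_one_iff y).2 (show (y : A) ∈ W from h7 ▸ ?_))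
    refine mem_cj.2 ⟨⟨hn.conj_mem' _ y.2.1 a, ?_⟩, ?_⟩
    · show (a⁻¹ * y * a) • b = b
      rw [mul_smul, mul_smul, ha1, (mH y).1 h1, inv_smul_eq_iff, ha1]
    · show (a⁻¹ * y * a) • b' = b'
      rw [mul_smul, mul_smul, ha2, h4, inv_smul_eq_iff, ha2]
  let φ : Zs T b →* H := (f.comp (inclusion hb1)).codRestrict H fun z => (mH _).2 (h.fix z.2)
  refine ((Perm.IsFC.of_isFrobeniusComplement hH).of_injective φ
    ((injective_iff_map_eq_one φ).2 fun z hz => Subtype.ext (inj z z.2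
      (congrArg Subtype.val hz)))).isCyclic_of_comm fun x y => Subtype.ext ?_
  exact (mem_Zs.1 y.2).2 x x.2.1 (h.fix x.2)

end ZC

end Cfsg.Lib.DTS
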