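import Cfsg.Agent.DTS.Comp

/-!
# Primitive groups with a doubly transitive subconstituent: reduction to `ZT`
-/

set_option autoImplicit false

namespace Cfsg.Lib.DTS

open Subgroup MulAction

universe u v

/-- A non-abelian simple normal subgroup `T` of a doubly transitive group has no non-trivial
element centralising a point stabiliser of `T`. -/
def ZT : Prop := ∀ (D : Type v) [Finite D] (A : Subgroup (Equiv.Perm D)),
  IsMultiplyPretransitive A D 2 → ∀ T : Subgroup A, T.Normal → IsSimpleGroup T →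
  ¬ IsMulCommutative T → ∀ (b : D) (e : A), e ∈ T → e ≠ 1 →
  (∀ t ∈ T, t • b = b → t * e = e * t) → False

theorem ZT.of_action (H : ZT.{v}) {A : Type u} {D : Type v} [Group A] [MulAction A D] [Finite D]
    (h2 : IsMultiplyPretransitive A D 2) (R : Subgroup A) (hn : R.Normal)
    (hs : ∀ W : Subgroup A, W ≤ R → (∀ r ∈ R, Nm r W) → W = ⊥ ∨ W = R)
    (hna : ¬ ∀ x ∈ R, Ce x R) {b : D} (hm : ∃ r ∈ R, r • b ≠ b) {e : A} (he : e ∈ R) (he1 : e ≠ 1)
    (hc : ∀ t ∈ R, t • b = b → t * e = e * t) : False := by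
  let f := (toPermHom A D).rangeRestrict
  have hf : ∀ (a : A) (d : D), f a • d = a • d := fun _ _ => rfl
  have hinj : ∀ r ∈ R, f r = 1 → r = 1 := by
    rcases hs (R ⊓ f.ker) inf_le_left (fun r hr y hy =>
      ⟨hn.conj_mem y hy.1 r, (MonoidHom.normal_ker f).conj_mem y hy.2 r⟩) with e | e
    · intro r hr h1
      have : r ∈ R ⊓ f.ker := ⟨hr, h1⟩
      rwa [e, mem_bot] at this
    · obtain ⟨r, hr, hrb⟩ := hm
      have : r ∈ R ⊓ f.ker := e.symm ▸ hr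
      exact absurd (by rw [← hf, show f r = 1 from this.2, one_smul]) hrb
  have hinj' : ∀ r ∈ R, ∀ s ∈ R, f r = f s → r = s := fun r hr s hs' h => by
    have := hinj (r⁻¹ * s) (mul_mem (inv_mem hr) hs') (by rw [map_mul, map_inv, h, inv_mul_cancel])
    exact inv_mul_eq_one.1 this
  let g : R →* R.map f := (f.comp R.subtype).codRestrict _ fun r => ⟨r, r.2, rfl⟩
  have hg : Function.Bijective g := ⟨fun r s h => Subtype.ext (hinj' r r.2 s s.2
    (congrArg Subtype.val h)), by rintro ⟨_, r, hr, rfl⟩; exact ⟨⟨r, hr⟩, rfl⟩⟩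
  have hRs : IsSimpleGroup R := by
    have : Nontrivial R := ⟨⟨e, he⟩, 1, fun h => he1 (congrArg Subtype.val h)⟩
    refine ⟨fun W hW => ?_⟩
    rcases hs (W.map R.subtype) (map_subtype_le W) (by
      rintro r hr _ ⟨w, hw, rfl⟩
      exact ⟨_, hW.conj_mem w hw ⟨r, hr⟩, rfl⟩) with e | e
    · exact Or.inl ((map_eq_bot_iff_of_injective W R.subtype_injective).1 e)
    · refine Or.inr (eq_top_iff.2 fun x _ => ?_)
      obtain ⟨w, hw, h⟩ : (x : A) ∈ W.map R.subtype := e.symm ▸ x.2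
      exact (Subtype.ext h : w = x) ▸ hw
  refine H D (toPermHom A D).range ?_ (R.map f)
    (hn.map f (toPermHom A D).rangeRestrict_surjective)
    ((MulEquiv.ofBijective g hg).symm.isSimpleGroup) (fun hc => hna fun x hx y hy => ?_) b (f e)
    ⟨e, he, rfl⟩ (fun h => he1 (hinj e he h)) ?_
  · rw [is_two_pretransitive_iff] at h2 ⊢
    intro a b c d h h'
    obtain ⟨g, h1, h2⟩ := h2 h h'
    exact ⟨f g, h1, h2⟩
  · refine hinj' _ (mul_mem hx hy) _ (mul_mem hy hx) ?_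
    rw [map_mul, map_mul]
    exact setLike_mul_comm (s := R.map f) ⟨x, hx, rfl⟩ ⟨y, hy, rfl⟩
  · rintro _ ⟨t, ht, rfl⟩ htb
    rw [← map_mul, ← map_mul, hc t ht htb]

variable {G : Type u} {Ω : Type v} [Group G] [MulAction G Ω]

/-- `N` is transitive. -/
def Tr (N : Subgroup G) (Ω : Type v) [MulAction G Ω] : Prop := ∀ x y : Ω, ∃ n ∈ N, n • x = y

theorem tr_of [FaithfulSMul G Ω] [IsPreprimitive G Ω] {N : Subgroup G} (hn : ∀ g, Nm g N)
    (h0 : N ≠ ⊥) : Tr N Ω := by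
  have : N.Normal := ⟨fun n h g => hn g n h⟩
  have : IsPretransitive N Ω := IsQuasiPreprimitive.isPretransitive_of_normal fun e => h0 (by
    rw [eq_bot_iff]
    intro n hn
    refine FaithfulSMul.eq_of_smul_eq_smul (α := Ω) fun x => ?_
    have : x ∈ fixedPoints N Ω := e ▸ trivial
    rw [one_smul]; exact this ⟨n, hn⟩)
  intro x y
  obtain ⟨n, h⟩ := exists_smul_eq N x y
  exact ⟨n, n.2, h⟩

theorem Tr.eq_one [FaithfulSMul G Ω] {N : Subgroup G} (h : Tr N Ω) {c : G} (hc : Ce c N) {a : Ω}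
    (ha : c • a = a) : c = 1 :=
  FaithfulSMul.eq_of_smul_eq_smul (α := Ω) fun x => by
    obtain ⟨n, hn, rfl⟩ := h a x
    rw [← mul_smul, hc n hn, mul_smul, ha, one_smul]

theorem fx {g : G} {a : Ω} (h : g • a = a) : g⁻¹ • a = a := by rw [inv_smul_eq_iff, h]

/-- The situation to be excluded. -/
structure St (α β : Ω) (N S : Subgroup G) : Prop where
  mn : MN N
  mem : ∀ s, s ∈ S ↔ ∃ n ∈ N, ∃ c, Ce c N ∧ s = n * c
  nab : ∀ A : Subgroup G, (∀ a ∈ A, Ce a N) → (∀ a ∈ A, Ce a A) → (∀ s ∈ S, Nm s A) → A = ⊥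
  ne : ∃ r ∈ S, r • α = α ∧ r ≠ 1
  two : (∀ T, Comp N T → T = N) → ∀ n ∈ N, n • α = α → n = 1
  hβ : β ≠ α
  mv : ∃ g : G, g • α = α ∧ g • β ≠ β
  h2t : ∀ g g' : G, g • α = α → g' • α = α → g • β ≠ β → g' • β ≠ β →
      ∃ k : G, k • α = α ∧ k • β = β ∧ k • g • β = g' • β

namespace St

variable [Finite G] [FaithfulSMul G Ω] [IsPreprimitive G Ω] {α β : Ω} {N S T X : Subgroup G}
  (h : St α β N S)
include h

theorem tr : Tr N Ω := tr_of h.mn.nm h.mn.c.ne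

omit [FaithfulSMul G Ω] [IsPreprimitive G Ω] [Finite G] in
theorem le : N ≤ S := fun n hn => (h.mem n).2 ⟨n, hn, 1, Ce.one N, by simp⟩

omit [FaithfulSMul G Ω] [IsPreprimitive G Ω] in
theorem nm (g : G) : Nm g S := fun s hs => by
  obtain ⟨n, hn, c, hc, rfl⟩ := (h.mem s).1 hs
  exact (h.mem _).2 ⟨_, h.mn.nm g n hn, _, hc.conj (h.mn.nm g), by group⟩

omit [FaithfulSMul G Ω] [IsPreprimitive G Ω] [Finite G] in
theorem nmT (hT : Comp N T) {s : G} (hs : s ∈ S) : Nm s T := by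
  obtain ⟨n, hn, c, hc, rfl⟩ := (h.mem s).1 hs
  exact (hT.nm n hn).mul (Ce.nm fun y hy => hc y (hT.le hy))

omit [FaithfulSMul G Ω] [IsPreprimitive G Ω] in
theorem decomp (hT : Comp N T) {s : G} (hs : s ∈ S) : ∃ t ∈ T, Ce (t⁻¹ * s) T := by
  obtain ⟨n, hn, c, hc, rfl⟩ := (h.mem s).1 hs
  obtain ⟨t, ht, h1⟩ := h.mn.decomp hT hn
  exact ⟨t, ht, by rw [← mul_assoc]; exact h1.mul fun y hy => hc y (hT.le hy)⟩

theorem coatom {K : Subgroup G} (h1 : stabilizer G α ≤ K) (h2 : ¬ K ≤ stabilizer G α) :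
    K = ⊤ := by
  have : Nontrivial Ω := ⟨β, α, h.hβ⟩
  exact (IsPreprimitive.isCoatom_stabilizer_of_isPreprimitive (G := G) α).2 K
    (lt_of_le_not_ge h1 h2)

theorem exists_cj (hT : Comp N T) {T' : Subgroup G} (hT' : Comp N T') :
    ∃ g : G, g • α = α ∧ cj g T = T' := by
  obtain ⟨g, rfl⟩ := h.mn.exists_cj hT hT'
  obtain ⟨n, hn, e⟩ := h.tr (g • α) α
  refine ⟨n * g, by rw [mul_smul, e], ?_⟩
  rw [cj_mul, ((hT.conj (h.mn.nm g)).nm n hn).cj_eq]

omit [FaithfulSMul G Ω] [IsPreprimitive G Ω] in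
theorem nmR {g : G} (hg : g • α = α) : Nm g (S ⊓ stabilizer G α) := fun r hr =>
  ⟨h.nm g r hr.1, by
    have : r • α = α := hr.2
    change (g * r * g⁻¹) • α = α
    rw [mul_smul, mul_smul, fx hg, this, hg]⟩

theorem hm : ∃ r ∈ S, r • α = α ∧ r • β ≠ β := by
  by_contra hno
  push Not at hno
  obtain ⟨s, hs, e⟩ := h.tr α β
  have hK := h.coatom (K := normalizer ((S ⊓ stabilizer G α : Subgroup G) : Set G))
    (fun g hg => nm_iff.1 (h.nmR hg)) fun hle => by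
      have : s⁻¹ • α = α := hle (nm_iff.1 fun r hr => ⟨h.nm _ r hr.1, by
        change (s⁻¹ * r * s⁻¹⁻¹) • α = α
        rw [inv_inv, mul_smul, mul_smul, e, hno r hr.1 hr.2, ← e, inv_smul_smul]⟩)
      exact h.hβ (by rw [← e, ← inv_inv s, fx this])
  obtain ⟨r, hr, hrα, hr1⟩ := h.ne
  obtain ⟨n, hn, e'⟩ := tr_of (Ω := Ω) (N := S ⊓ stabilizer G α)
    (fun g => nm_iff.2 (hK ▸ trivial)) (fun e => hr1 (by
      have : r ∈ S ⊓ stabilizer G α := ⟨hr, hrα⟩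
      rwa [e, mem_bot] at this)) α β
  exact h.hβ (e' ▸ hn.2)

theorem hR (g : G) (hg : g • α = α) : ∃ r ∈ S, r • α = α ∧ r • β = g • β := by
  by_cases e : g • β = β
  · exact ⟨1, one_mem _, one_smul _ _, by rw [e, one_smul]⟩
  obtain ⟨r, hr, hrα, hrβ⟩ := h.hm
  obtain ⟨k, h1, h2, h3⟩ := h.h2t r g hrα hg hrβ e
  exact ⟨k * r * k⁻¹, h.nm k r hr, (h.nmR h1 r ⟨hr, hrα⟩).2, by
    rw [mul_smul, mul_smul, fx h2, h3]⟩

theorem hβ' : ∃ s ∈ S, s • α = β := by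
  obtain ⟨s, hs, e⟩ := h.tr α β
  exact ⟨s, h.le hs, e⟩

/-- Product action type. -/
theorem diag (hT : Comp N T) {t : G} (ht : t ∈ T) : ∃ r ∈ S, r • α = α ∧ Ce (r⁻¹ * t) T := by
  by_contra hno
  let P : Subgroup G :=
    { carrier := {n | n ∈ N ∧ ∀ T, Comp N T → ∃ r ∈ S, r • α = α ∧ Ce (r⁻¹ * n) T}
      one_mem' := ⟨one_mem _, fun T _ => ⟨1, one_mem _, one_smul _ _, by simpa using Ce.one T⟩⟩
      mul_mem' := by
        rintro a b ⟨ha, h1⟩ ⟨hb, h2⟩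
        refine ⟨mul_mem ha hb, fun T hT => ?_⟩
        obtain ⟨r, hr, hrα, c1⟩ := h1 T hT
        obtain ⟨s, hs, hsα, c2⟩ := h2 T hT
        refine ⟨r * s, mul_mem hr hs, by rw [mul_smul, hsα, hrα], ?_⟩
        have := (c1.conj (h.nmT hT (inv_mem hs))).mul c2
        simpa [mul_assoc] using this
      inv_mem' := by
        rintro a ⟨ha, h1⟩
        refine ⟨inv_mem ha, fun T hT => ?_⟩
        obtain ⟨r, hr, hrα, c1⟩ := h1 T hT
        refine ⟨r⁻¹, inv_mem hr, fx hrα, ?_⟩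
        have := c1.inv.conj (h.nmT hT hr)
        simpa [mul_assoc] using this }
  have hPn : stabilizer G α ≤ normalizer (P : Set G) := fun g hg => nm_iff.1 (by
    rintro n ⟨hn, h1⟩
    refine ⟨h.mn.nm g n hn, fun T hT => ?_⟩
    obtain ⟨r, hr, hrα, c1⟩ := h1 _ (hT.conj (h.mn.nm g⁻¹))
    refine ⟨g * r * g⁻¹, h.nm g r hr, (h.nmR hg r ⟨hr, hrα⟩).2, ?_⟩
    have := c1.cj (g := g)
    rw [← cj_mul, mul_inv_cancel, cj_one] at this
    simpa [mul_assoc] using this)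
  have hP : P ≤ stabilizer G α := by
    by_contra hP
    have hK := h.coatom (K := P ⊔ stabilizer G α) le_sup_right fun hle =>
      hP (le_sup_left.trans hle)
    have : t ∈ ((P ⊔ stabilizer G α : Subgroup G) : Set G) := hK ▸ trivial
    rw [coe_mul_of_right_le_normalizer_left _ _ hPn] at this
    obtain ⟨p, ⟨hp, h1⟩, k, hk, e⟩ := this
    obtain ⟨r, hr, hrα, c1⟩ := h1 T hT
    have hkN : k ∈ N := by
      have := mul_mem (inv_mem hp) (hT.le ht)
      rw [← e] at this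
      simpa using this
    refine hno ⟨r * k, mul_mem hr (h.le hkN), by rw [mul_smul, show k • α = α from hk, hrα], ?_⟩
    have := c1.conj (hT.nm _ (inv_mem hkN))
    rw [← e]
    simpa [mul_assoc] using this
  have h6 : ∀ T, Comp N T → ∀ r ∈ S, r • α = α →
      ∃ x ∈ T, x ∈ S ∧ x • α = α ∧ Ce (x⁻¹ * r) T := by
    intro T hT r hr hrα
    obtain ⟨x, hx, hc⟩ := h.decomp hT hr
    refine ⟨x, hx, h.le (hT.le hx), hP ⟨hT.le hx, fun T' hT' => ?_⟩, hc⟩
    by_cases e : T' = T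
    · exact ⟨r, hr, hrα, by rw [e]; simpa using hc.inv⟩
    · exact ⟨1, one_mem _, one_smul _ _, by simpa using hT'.comm hT e hx⟩
  refine ham (α := α) (β := β) h.nm {T | Comp N T} (fun V hV s hs => h.nmT hV hs)
    (fun V hV g _ => hV.conj (h.mn.nm g)) (fun V hV V' hV' => h.exists_cj hV hV')
    (fun V hV V' hV' e x hx => hV.comm hV' e hx) (fun V hV x hx hc => h.mn.eq_one hV hx hc) h6
    (fun r _ hrα hc => h.tr.eq_one (h.mn.ce_of_comps hc) hrα) ?_ h.hβ' h.hR h.hm h.h2t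
  by_contra hno'
  push Not at hno'
  have e : ∀ T', Comp N T' → T' = N := fun T' hT' => le_antisymm hT'.le
    (h.mn.le_of hT' fun g => (hno' _ (hT'.conj (h.mn.nm g)) _ hT').le)
  obtain ⟨r, hr, hrα, hr1⟩ := h.ne
  obtain ⟨x, hx, -, hxα, hc⟩ := h6 T hT r hr hrα
  rw [h.two e x (hT.le hx) hxα, inv_one, one_mul, e T hT] at hc
  exact hr1 (h.tr.eq_one hc hrα)

theorem proj (hT : Comp N T) (hXS : X ≤ S) (hX : ∀ r ∈ S, r • α = α → Nm r X)
    (hne : ∃ x ∈ X, ¬ Ce x T) {t : G} (ht : t ∈ T) : ∃ x ∈ X, Ce (x⁻¹ * t) T := by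
  let W : Subgroup G :=
    { carrier := {t | t ∈ T ∧ ∃ x ∈ X, Ce (x⁻¹ * t) T}
      one_mem' := ⟨one_mem _, 1, one_mem _, by simpa using Ce.one T⟩
      mul_mem' := by
        rintro a b ⟨ha, r, hr, c1⟩ ⟨hb, s, hs, c2⟩
        refine ⟨mul_mem ha hb, r * s, mul_mem hr hs, ?_⟩
        have := (c1.conj (h.nmT hT (hXS (inv_mem hs)))).mul c2
        simpa [mul_assoc] using this
      inv_mem' := by
        rintro a ⟨ha, r, hr, c1⟩
        refine ⟨inv_mem ha, r⁻¹, inv_mem hr, ?_⟩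
        have := c1.inv.conj (h.nmT hT (hXS hr))
        simpa [mul_assoc] using this }
  rcases h.mn.simple hT W (fun w hw => hw.1) (by
      rintro s hs w ⟨hw, x, hx, c1⟩
      obtain ⟨r, hr, hrα, c2⟩ := h.diag hT hs
      refine ⟨mul_mem (mul_mem hs hw) (inv_mem hs), r * x * r⁻¹, hX r hr hrα x hx, ?_⟩
      have e : s * w * s⁻¹ = r * w * r⁻¹ := by
        calc s * w * s⁻¹ = r * ((r⁻¹ * s) * w) * s⁻¹ := by group
          _ = _ := by rw [c2 w hw]; group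
      have := c1.conj (h.nmT hT hr)
      rw [e]
      simpa [mul_assoc] using this) with e | e
  · obtain ⟨x, hx, hc⟩ := hne
    obtain ⟨s, hs, c1⟩ := h.decomp hT (hXS hx)
    have : s ∈ W := ⟨hs, x, hx, by simpa using c1.inv⟩
    rw [e, mem_bot] at this
    exact absurd (by simpa [this] using c1) hc
  · exact (show t ∈ W from e.symm ▸ ht).2

theorem ceT (hT : Comp N T) (hXS : X ≤ S) (hX : ∀ r ∈ S, r • α = α → Nm r X)
    (hne : ∃ x ∈ X, ¬ Ce x T) {c : G} (hc : c ∈ S) (hcX : Ce c X) : Ce c T := fun t ht => by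
  obtain ⟨x, hx, c1⟩ := h.proj hT hXS hX hne ht
  have e := h.mn.eq_one hT (x := c * t * c⁻¹ * t⁻¹) (mul_mem (h.nmT hT hc t ht) (inv_mem ht)) (by
    have := ((c1.conj (h.nmT hT hc)).mul c1.inv).conj (h.nmT hT (hXS hx))
    have e : x * (c * (x⁻¹ * t) * c⁻¹ * (x⁻¹ * t)⁻¹) * x⁻¹ =
        (x * c * x⁻¹) * t * c⁻¹ * t⁻¹ := by group
    rwa [e, ← hcX x hx, mul_inv_cancel_right] at this)
  calc c * t = (c * t * c⁻¹ * t⁻¹) * (t * c) := by group
    _ = t * c := by rw [e, one_mul]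

theorem exists_T (hX : Comp (S ⊓ stabilizer G α) X) : ∃ T, Comp N T ∧ ∃ x ∈ X, ¬ Ce x T := by
  by_contra hno
  push Not at hno
  refine hX.ne (eq_bot_iff.2 fun x hx => ?_)
  exact h.tr.eq_one (h.mn.ce_of_comps fun T hT => hno T hT x hx) (hX.le hx).2

theorem ce_all (hX : Comp (S ⊓ stabilizer G α) X) {r : G} (hr : r ∈ S) (hrα : r • α = α)
    (hc : ∀ g : G, g • α = α → Ce r (cj g X)) : r = 1 := by
  obtain ⟨T, hT, x, hx, hne⟩ := h.exists_T hX
  refine h.tr.eq_one (h.mn.ce_of_comps fun T' hT' => ?_) hrα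
  obtain ⟨g, hg, rfl⟩ := h.exists_cj hT hT'
  have hX' := hX.conj (h.nmR hg)
  refine h.ceT hT' (fun y hy => (hX'.le hy).1) (fun s hs hsα => hX'.nm s ⟨hs, hsα⟩)
    ⟨_, conj_mem_cj hx, fun hc' => hne ?_⟩ hr (hc g hg)
  have := hc'.cj (g := g⁻¹)
  rw [← cj_mul, inv_mul_cancel, cj_one] at this
  simpa [mul_assoc] using this

theorem split (hX : Comp (S ⊓ stabilizer G α) X) {r : G} (hr : r ∈ S) (hrα : r • α = α) :
    ∃ x ∈ X, Ce (x⁻¹ * r) X := by
  obtain ⟨T, hT, hne⟩ := h.exists_T hX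
  obtain ⟨t, ht, c1⟩ := h.decomp hT hr
  obtain ⟨x, hx, c2⟩ := h.proj hT (fun y hy => (hX.le hy).1) (fun s hs hsα => hX.nm s ⟨hs, hsα⟩)
    hne ht
  have hk : x⁻¹ * r ∈ S ⊓ stabilizer G α := mul_mem (inv_mem (hX.le hx)) ⟨hr, hrα⟩
  refine ⟨x, hx, hX.ce_of (W := centralizer (T : Set G))
    (fun n hn y hy => ce_iff.1 ((ce_iff.2 hy).conj (h.nmT hT hn.1))) (fun hle => ?_)
    (ce_iff.1 (by simpa [mul_assoc] using c2.mul c1)) (hX.nm _ hk)⟩
  obtain ⟨y, hy, hc⟩ := hne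
  exact hc (ce_iff.2 (hle hy))

theorem nmU (hX : Comp (S ⊓ stabilizer G α) X) {s : G} (hs : s ∈ S) :
    Nm s (S ⊓ centralizer (X : Set G)) := by
  obtain ⟨T0, hT0⟩ := h.mn.exists_comp
  have hN : N ≤ normalizer ((S ⊓ centralizer (X : Set G) : Subgroup G) : Set G) :=
    h.mn.le_of hT0 fun g t ht => nm_iff.1 (by
      have hT := hT0.conj (h.mn.nm g)
      by_cases hne : ∃ x ∈ X, ¬ Ce x (cj g T0)
      · exact Ce.nm fun u hu => (h.ceT hT (fun y hy => (hX.le hy).1)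
          (fun s hs hsα => hX.nm s ⟨hs, hsα⟩) hne hu.1 (ce_iff.2 hu.2) t ht).symm
      · push Not at hne
        exact nm_of_mem ⟨h.le (hT.le ht), fun x hx => hne x hx t ht⟩)
  obtain ⟨n, hn, e⟩ := h.tr (s • α) α
  have hr : n * s ∈ S ⊓ stabilizer G α := ⟨mul_mem (h.le hn) hs, by
    change (n * s) • α = α
    rw [mul_smul, e]⟩
  have := (nm_iff.2 (hN (inv_mem hn))).mul (y := n * s) fun u hu =>
    ⟨h.nm _ u hu.1, ce_iff.1 ((ce_iff.2 hu.2).conj (hX.nm _ hr))⟩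
  simpa using this

/-- Compound diagonal type. -/
theorem cj_eq (hX : Comp (S ⊓ stabilizer G α) X) {g : G} (hg : g • α = α) : cj g X = X := by
  by_contra hne
  let V : Subgroup G → Subgroup G := fun X =>
    S ⊓ centralizer ((S ⊓ centralizer (X : Set G) : Subgroup G) : Set G)
  have hXV : ∀ X, Comp (S ⊓ stabilizer G α) X → X ≤ V X := fun X hX x hx =>
    ⟨(hX.le hx).1, fun u hu => (hu.2 x hx).symm⟩
  have hVn : ∀ X, Comp (S ⊓ stabilizer G α) X → ∀ s ∈ S, Nm s (V X) := fun X hX s hs v hv =>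
    ⟨h.nm s v hv.1, ce_iff.1 ((ce_iff.2 hv.2).conj (h.nmU hX hs))⟩
  have hcj : ∀ g X, cj g (V X) = V (cj g X) := by
    intro g X
    have key : ∀ g X, cj g (V X) ≤ V (cj g X) := by
      rintro g X _ ⟨v, hv, rfl⟩
      refine ⟨h.nm g v hv.1, fun u hu => ?_⟩
      have h1 : Ce (g⁻¹ * u * g⁻¹⁻¹) X := by
        have := (ce_iff.2 hu.2).cj (g := g⁻¹)
        rwa [← cj_mul, inv_mul_cancel, cj_one] at this
      have := hv.2 _ ⟨h.nm _ u hu.1, ce_iff.1 h1⟩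
      change u * (g * v * g⁻¹) = g * v * g⁻¹ * u
      calc _ = g * (g⁻¹ * u * g⁻¹⁻¹ * v) * g⁻¹ := by group
        _ = _ := by rw [this]; group
    refine le_antisymm (key g X) fun v hv => ?_
    have := key g⁻¹ _ (conj_mem_cj (g := g⁻¹) hv)
    rw [← cj_mul, inv_mul_cancel, cj_one, inv_inv] at this
    exact mem_cj.2 this
  have hcm : ∀ X X', Comp (S ⊓ stabilizer G α) X → Comp (S ⊓ stabilizer G α) X' → X ≠ X' →
      ∀ x ∈ V X', Ce x (V X) := fun X X' hX hX' e x hx y hy =>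
    (hx.2 y ⟨hy.1, fun z hz => hy.2 z ⟨(hX'.le hz).1, ce_iff.1 (hX.comm hX' e hz)⟩⟩).symm
  have h5 : ∀ X, Comp (S ⊓ stabilizer G α) X → ∀ x ∈ V X, Ce x (V X) → x = 1 := by
    intro X hX x hx hc
    have hA : ∀ a ∈ V X ⊓ centralizer (V X : Set G), Ce a (V X ⊓ centralizer (V X : Set G)) :=
      fun a ha y hy => hy.2 a ha.1
    have hn : ∀ s ∈ S, Nm s (V X ⊓ centralizer (V X : Set G)) := fun s hs v hv =>
      ⟨hVn X hX s hs v hv.1, ce_iff.1 ((ce_iff.2 hv.2).conj (hVn X hX s hs))⟩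
    have := h.nab _ (fun a ha => h.mn.ce_of_ab hA (fun n hn' => hn n (h.le hn')) ha
      fun T hT => h.nmT hT ha.1.1) hA hn
    have hx' : x ∈ V X ⊓ centralizer (V X : Set G) := ⟨hx, ce_iff.1 hc⟩
    rwa [this, mem_bot] at hx'
  have hc : ∀ g : G, g • α = α → Comp (S ⊓ stabilizer G α) (cj g X) := fun g hg =>
    hX.conj (h.nmR hg)
  refine ham (α := α) (β := β) h.nm {W | ∃ g : G, g • α = α ∧ W = V (cj g X)} ?_ ?_ ?_ ?_ ?_ ?_
    ?_ ?_ h.hβ' h.hR h.hm h.h2t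
  · rintro _ ⟨k, hk, rfl⟩
    exact hVn _ (hc k hk)
  · rintro _ ⟨k, hk, rfl⟩ g hg
    exact ⟨g * k, by rw [mul_smul, hk, hg], by rw [hcj, cj_mul]⟩
  · rintro _ ⟨k, hk, rfl⟩ _ ⟨k', hk', rfl⟩
    exact ⟨k' * k⁻¹, by rw [mul_smul, fx hk, hk'], by
      rw [hcj, ← cj_mul, inv_mul_cancel_right]⟩
  · rintro _ ⟨k, hk, rfl⟩ _ ⟨k', hk', rfl⟩ e
    exact hcm _ _ (hc k hk) (hc k' hk') fun e' => e (by rw [e'])
  · rintro _ ⟨k, hk, rfl⟩
    exact h5 _ (hc k hk)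
  · rintro _ ⟨k, hk, rfl⟩ r hr hrα
    obtain ⟨x, hx, c1⟩ := h.split (hc k hk) hr hrα
    have hxS := (hc k hk).le hx
    exact ⟨x, hXV _ (hc k hk) hx, hxS.1, hxS.2, fun v hv =>
      hv.2 _ ⟨S.mul_mem (S.inv_mem hxS.1) hr, ce_iff.1 c1⟩⟩
  · intro r hr hrα hall
    exact h.ce_all hX hr hrα fun g hg y hy => hall _ ⟨g, hg, rfl⟩ y (hXV _ (hc g hg) hy)
  · refine ⟨_, ⟨g, hg, rfl⟩, _, ⟨1, one_smul _ _, rfl⟩, fun e => hX.ne (eq_bot_iff.2 fun x hx => ?_)⟩
    rw [cj_one] at e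
    refine h5 X hX x (hXV X hX hx) ?_
    have := hcm _ _ (hc g hg) hX hne x (hXV X hX hx)
    rwa [e] at this

theorem simpleR : Comp (S ⊓ stabilizer G α) (S ⊓ stabilizer G α) := by
  obtain ⟨r, hr, hrα, hr1⟩ := h.ne
  obtain ⟨X, -, hX⟩ := exists_comp (N := S ⊓ stabilizer G α) (M := S ⊓ stabilizer G α)
    (fun e => hr1 (by
      have : r ∈ S ⊓ stabilizer G α := ⟨hr, hrα⟩
      rwa [e, mem_bot] at this)) le_rfl fun n hn => nm_of_mem hn
  suffices S ⊓ stabilizer G α ≤ X by rwa [le_antisymm hX.le this] at hX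
  intro s hs
  obtain ⟨x, hx, c1⟩ := h.split hX hs.1 hs.2
  have hk : x⁻¹ * s ∈ S ⊓ stabilizer G α := mul_mem (inv_mem (hX.le hx)) hs
  have := h.ce_all hX hk.1 hk.2 fun g hg => by rwa [h.cj_eq hX hg]
  rw [inv_mul_eq_one] at this
  exact this ▸ hx

theorem eq_one_of_ce (hT : Comp N T) {r : G} (hr : r ∈ S) (hrα : r • α = α) (hc : Ce r T) :
    r = 1 :=
  h.simpleR.inf_bot (W := centralizer (T : Set G))
    (fun n hn y hy => ce_iff.1 ((ce_iff.2 hy).conj (h.nmT hT hn.1))) (fun hle =>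
      h.mn.not_comm hT fun t ht => by
        obtain ⟨r, hr, hrα, c1⟩ := h.diag hT ht
        simpa using (ce_iff.2 (hle ⟨hr, hrα⟩)).mul c1) r ⟨hr, hrα⟩ (ce_iff.1 hc)

theorem exists_e : ∃ e ∈ S, e • α = α ∧ e ≠ 1 ∧
    ∀ r ∈ S, r • α = α → r • β = β → r * e = e * r := by
  obtain ⟨T, hT⟩ := h.mn.exists_comp
  obtain ⟨s, hs, hsβ⟩ := h.hβ'
  obtain ⟨t, ht, c1⟩ := h.decomp hT (inv_mem hs)
  obtain ⟨r0, hr0, hr0α, c2⟩ := h.diag hT ht
  have hu : Ce (s * r0) T := by simpa [mul_assoc] using (c2.mul c1).inv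
  have huS : s * r0 ∈ S := mul_mem hs hr0
  have huβ : (s * r0) • α = β := by rw [mul_smul, hr0α, hsβ]
  generalize s * r0 = u at hu huS huβ
  have hru : ∀ r ∈ S, r • α = α → r • β = β → r * u * r⁻¹ = u := by
    intro r hr hrα hrβ
    have := h.eq_one_of_ce hT (r := u⁻¹ * (r * u * r⁻¹)) (mul_mem (inv_mem huS) (h.nm r u huS))
      (by rw [mul_smul, mul_smul, mul_smul, fx hrα, huβ, hrβ, ← huβ, inv_smul_smul])
      (hu.inv.mul (hu.conj (h.nmT hT hr)))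
    exact (inv_mul_eq_one.1 this).symm
  have key : ∀ U : Subgroup G, (∀ r ∈ S, Nm r U) → (∀ r ∈ S, r • α = α → r ∈ U → r = 1) →
      u ∉ U → (∃ e ∈ S, e • α = α ∧ e⁻¹ * u ∈ U) → ∃ e ∈ S, e • α = α ∧ e ≠ 1 ∧
      ∀ r ∈ S, r • α = α → r • β = β → r * e = e * r := by
    rintro U h1 h2 h3 ⟨e, he, heα, heU⟩
    refine ⟨e, he, heα, fun e1 => h3 (by simpa [e1] using heU), fun r hr hrα hrβ => ?_⟩
    have := h2 (e⁻¹ * (r * e * r⁻¹)) (mul_mem (inv_mem he) (h.nm r e he))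
      (by rw [mul_smul, mul_smul, mul_smul, fx hrα, heα, hrα, fx heα]) (by
        have := mul_mem heU (inv_mem (h1 r hr _ heU))
        have e1 : e⁻¹ * u * (r * (e⁻¹ * u) * r⁻¹)⁻¹ = e⁻¹ * u * (r * u * r⁻¹)⁻¹ * (r * e * r⁻¹) := by
          group
        rwa [e1, hru r hr hrα hrβ, mul_inv_cancel_right] at this)
    rw [inv_mul_eq_one] at this
    calc r * e = (r * e * r⁻¹) * r := by group
      _ = e * r := by rw [← this]
  by_cases hall : ∀ T', Comp N T' → Ce u T'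
  · have hc := h.mn.ce_of_comps hall
    have hu1 : u ≠ 1 := fun e => h.hβ (by rw [← huβ, e, one_smul])
    have hC : Tr (centralizer (N : Set G)) Ω := tr_of
      (fun g y hy => ce_iff.1 ((ce_iff.2 hy).conj (h.mn.nm g))) fun e => hu1 (by
        have := ce_iff.1 hc
        rwa [e, mem_bot] at this)
    refine key N (fun r _ => h.mn.nm r) (fun r _ hrα hr => hC.eq_one (fun y hy => hy r hr) hrα)
      (fun hu' => hu1 (h.mn.eq_one' hu' hc)) ?_
    obtain ⟨n, hn, e⟩ := h.tr α (u⁻¹ • α)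
    refine ⟨u * n, mul_mem huS (h.le hn), by rw [mul_smul, e, smul_inv_smul], ?_⟩
    simpa using inv_mem hn
  · push Not at hall
    obtain ⟨T', hT', hc⟩ := hall
    refine key (centralizer (T' : Set G))
      (fun r hr y hy => ce_iff.1 ((ce_iff.2 hy).conj (h.nmT hT' hr)))
      (fun r hr hrα hc => h.eq_one_of_ce hT' hr hrα (ce_iff.2 hc)) (fun h' => hc (ce_iff.2 h')) ?_
    obtain ⟨t', ht', c3⟩ := h.decomp hT' huS
    obtain ⟨e, he, heα, c4⟩ := h.diag hT' ht'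
    exact ⟨e, he, heα, ce_iff.1 (by simpa [mul_assoc] using c4.mul c3)⟩

theorem false [Finite Ω] (H : ZT.{v})
    (h2 : IsMultiplyPretransitive (stabilizer G α) (orbit (stabilizer G α) β) 2) : False := by
  obtain ⟨e, he, heα, he1, hc⟩ := h.exists_e
  have hR := h.simpleR
  refine H.of_action h2 (S.subgroupOf (stabilizer G α)) ⟨fun n hn g => h.nm g n hn⟩
    (fun W hW hn => ?_) (fun hab => ?_) (b := ⟨β, mem_orbit_self β⟩) ?_ (e := ⟨e, heα⟩) he
    (fun e1 => he1 (congrArg Subtype.val e1)) fun t ht htb =>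
      Subtype.ext (hc t ht t.2 (congrArg Subtype.val htb))
  · rcases hR.min (W.map (stabilizer G α).subtype) (by
        rintro _ ⟨w, hw, rfl⟩
        exact ⟨hW hw, w.2⟩) (by
        rintro r hr _ ⟨w, hw, rfl⟩
        exact ⟨_, hn ⟨r, hr.2⟩ hr.1 w hw, rfl⟩) with e | e
    · exact Or.inl ((map_eq_bot_iff_of_injective W (subtype_injective _)).1 e)
    · refine Or.inr (le_antisymm hW fun x hx => ?_)
      obtain ⟨w, hw, h'⟩ : (x : G) ∈ W.map (stabilizer G α).subtype := e.symm ▸ ⟨hx, x.2⟩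
      exact (Subtype.ext h' : w = x) ▸ hw
  · refine he1 (h.ce_all hR he heα fun g hg y hy => ?_)
    rw [(h.nmR hg).cj_eq] at hy
    exact congrArg Subtype.val (hab ⟨e, heα⟩ he ⟨y, hy.2⟩ hy.1)
  · obtain ⟨r, hr, hrα, hrβ⟩ := h.hm
    exact ⟨⟨r, hrα⟩, hr, fun e => hrβ (congrArg Subtype.val e)⟩

end St

theorem main (H : ZT.{v}) [Finite G] [FaithfulSMul G Ω] [Finite Ω]
    (hprim : IsPreprimitive G Ω) (α β : Ω) (hβ : β ≠ α)
    (h2 : 2 ≤ Nat.card (orbit (stabilizer G α) β))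
    (h2t : IsMultiplyPretransitive (stabilizer G α) (orbit (stabilizer G α) β) 2) :
    (∃ T : Subgroup G, T.Normal ∧ IsSimpleGroup T ∧ ¬ IsMulCommutative T ∧
      centralizer (T : Set G) = ⊥) ∨
    (∃ N : Subgroup G, N.Normal ∧ N ≠ ⊥ ∧ (∀ M : Subgroup G, M.Normal → M ≠ ⊥ → N ≤ M) ∧
      IsPretransitive N Ω ∧ ∀ ω : Ω, stabilizer N ω = ⊥) := by
  obtain ⟨g0, hg0⟩ := exists_smul_eq G α β
  obtain ⟨N, -, hN⟩ := exists_comp (N := ⊤) (M := (⊤ : Subgroup G)) (fun e => hβ (by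
    have : g0 ∈ (⊥ : Subgroup G) := e ▸ trivial
    rw [← hg0, mem_bot.1 this, one_smul])) le_rfl fun _ _ _ _ => trivial
  have hNn : N.Normal := ⟨fun n hn g => hN.nm g trivial n hn⟩
  have htr : Tr N Ω := tr_of (fun g => hN.nm g trivial) hN.ne
  have alt : (∀ c, Ce c N → c ∈ N) → (∀ n ∈ N, n • α = α → n = 1) →
      ∃ N : Subgroup G, N.Normal ∧ N ≠ ⊥ ∧ (∀ M : Subgroup G, M.Normal → M ≠ ⊥ → N ≤ M) ∧
      IsPretransitive N Ω ∧ ∀ ω : Ω, stabilizer N ω = ⊥ := by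
    intro h1 h2
    refine ⟨N, hNn, hN.ne, fun M hM hM0 => ?_, ⟨fun x y => ?_⟩, fun ω => ?_⟩
    · by_contra hle
      refine hM0 (eq_bot_iff.2 fun m hm => ?_)
      have hMn : ∀ n ∈ (⊤ : Subgroup G), Nm n M := fun n _ y hy => hM.conj_mem y hy n
      exact hN.inf_bot hMn hle m (h1 m (hN.ce_of hMn hle hm (hN.nm m trivial))) hm
    · obtain ⟨n, hn, e⟩ := htr x y
      exact ⟨⟨n, hn⟩, e⟩
    · rw [eq_bot_iff]
      intro n hn
      obtain ⟨g, rfl⟩ := exists_smul_eq G α ω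
      have := h2 (g⁻¹ * n * g⁻¹⁻¹) (hNn.conj_mem _ n.2 _) (by
        rw [inv_inv, mul_smul, mul_smul, inv_smul_eq_iff]; exact hn)
      exact Subtype.ext (conj_eq_one_iff.1 this)
  by_cases hab : ∀ x ∈ N, Ce x N
  · refine Or.inr (alt (fun c hc => ?_) fun n hn hnα => htr.eq_one (hab n hn) hnα)
    obtain ⟨n, hn, e⟩ := htr α (c • α)
    have := htr.eq_one ((hab n hn).inv.mul hc) (a := α) (by rw [mul_smul, ← e, inv_smul_smul])
    exact inv_mul_eq_one.1 this ▸ hn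
  have hM : MN N := ⟨hN, by push Not at hab; exact hab⟩
  have hCn : ∀ g, Nm g (centralizer (N : Set G)) := fun g y hy =>
    ce_iff.1 ((ce_iff.2 hy).conj (hM.nm g))
  by_contra hno
  rw [not_or] at hno
  refine St.false (α := α) (β := β) (N := N) (S := N ⊔ centralizer (N : Set G))
    ⟨hM, fun s => ?_, fun A h1 h2 h3 => ?_, ?_, fun h1 => ?_, hβ, ?_, ?_⟩ H h2t
  · rw [mem_sup_of_normal_left]
    exact ⟨fun ⟨n, hn, c, hc, e⟩ => ⟨n, hn, c, ce_iff.2 hc, e.symm⟩,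
      fun ⟨n, hn, c, hc, e⟩ => ⟨n, hn, c, ce_iff.1 hc, e.symm⟩⟩
  · by_cases hC : centralizer (N : Set G) = ⊥
    · exact eq_bot_iff.2 fun a ha => hC ▸ ce_iff.1 (h1 a ha)
    have hC' : MN (centralizer (N : Set G)) := by
      refine ⟨⟨hC, le_top, fun g _ => hCn g, fun W hW hWn => ?_⟩, ?_⟩
      · by_cases hW0 : W = ⊥
        · exact Or.inl hW0
        refine Or.inr (le_antisymm hW fun c hc => ?_)
        obtain ⟨w, hw, e⟩ := tr_of (Ω := Ω) (fun g => hWn g trivial) hW0 α (c • α)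
        have := htr.eq_one ((ce_iff.2 (hW hw)).inv.mul (ce_iff.2 hc)) (a := α)
          (by rw [mul_smul, ← e, inv_smul_smul])
        exact inv_mul_eq_one.1 this ▸ hw
      · by_contra hno'
        push Not at hno'
        have htC := tr_of (Ω := Ω) hCn hC
        refine hab fun n hn => ?_
        obtain ⟨c, hc, e⟩ := htC α (n • α)
        have := htC.eq_one ((hno' c hc).inv.mul (x := c⁻¹) (y := n) fun y hy => hy n hn) (a := α)
          (by rw [mul_smul, ← e, inv_smul_smul])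
        exact inv_mul_eq_one.1 this ▸ ce_iff.2 hc
    exact eq_bot_iff.2 fun a ha => hC'.eq_one' (ce_iff.1 (h1 a ha))
      (hC'.ce_of_ab h2 (fun c hc => h3 c (mem_sup_right hc)) ha
        fun T hT => hT.nm a (ce_iff.1 (h1 a ha)))
  · by_cases hC : centralizer (N : Set G) = ⊥
    · by_contra hno'
      push Not at hno'
      refine hno.2 (alt (fun c hc => ?_) fun n hn hnα => hno' n (mem_sup_left hn) hnα)
      have := ce_iff.1 hc
      rw [hC, mem_bot] at this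
      exact this ▸ one_mem _
    · obtain ⟨c, hc, hc1⟩ := (bot_or_exists_ne_one _).resolve_left hC
      obtain ⟨n, hn, e⟩ := htr (c • α) α
      refine ⟨n * c, mul_mem_sup hn hc, by rw [mul_smul, e], fun e1 => hc1 (hM.eq_one' ?_
        (ce_iff.2 hc))⟩
      rw [← eq_inv_iff_mul_eq_one] at e1
      simpa [e1] using inv_mem hn
  · by_cases hC : centralizer (N : Set G) = ⊥
    · obtain ⟨T, hT⟩ := hM.exists_comp
      have e := h1 T hT
      rw [e] at hT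
      refine absurd ⟨N, hNn, ?_, fun hc => hab fun x hx y hy => setLike_mul_comm hx hy, hC⟩ hno.1
      have : Nontrivial N := (nontrivial_iff_ne_bot N).2 hN.ne
      refine ⟨fun W hW => ?_⟩
      rcases hT.min (W.map N.subtype) (map_subtype_le W) (by
        rintro r hr _ ⟨w, hw, rfl⟩
        exact ⟨_, hW.conj_mem w hw ⟨r, hr⟩, rfl⟩) with e | e
      · exact Or.inl ((map_eq_bot_iff_of_injective W N.subtype_injective).1 e)
      · refine Or.inr (eq_top_iff.2 fun x _ => ?_)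
        obtain ⟨w, hw, h⟩ : (x : G) ∈ W.map N.subtype := e.symm ▸ x.2
        exact (Subtype.ext h : w = x) ▸ hw
    · exact fun n hn hnα => (tr_of (Ω := Ω) hCn hC).eq_one (fun y hy => hy n hn) hnα
  · have : Nontrivial (orbit (stabilizer G α) β) := Finite.one_lt_card_iff_nontrivial.1 h2
    obtain ⟨⟨_, g, rfl⟩, hne⟩ := exists_ne (⟨β, mem_orbit_self β⟩ : orbit (stabilizer G α) β)
    exact ⟨g, g.2, fun e => hne (Subtype.ext e)⟩
  · intro g g' hg hg' h1 h2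
    rw [is_two_pretransitive_iff] at h2t
    obtain ⟨k, e1, e2⟩ := @h2t ⟨β, mem_orbit_self β⟩ ⟨g • β, ⟨g, hg⟩, rfl⟩
      ⟨β, mem_orbit_self β⟩ ⟨g' • β, ⟨g', hg'⟩, rfl⟩
      (fun e => h1 (congrArg Subtype.val e).symm) (fun e => h2 (congrArg Subtype.val e).symm)
    exact ⟨k, k.2, congrArg Subtype.val e1, congrArg Subtype.val e2⟩

end Cfsg.Lib.DTS
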